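import Groth.Agent.Fixpt.H901.ModPull

/-!
# Inverse images and constant sheaves

* `homEquiv_pcomp`: transposes of maps out of a composite inverse image;
* `pcomp_const`, `pcomp_unit`: `FixPt.pullConstIso` and `FixPt.pullUnit` are compatible with composition.
-/

set_option autoImplicit false
universe u

open CategoryTheory CategoryTheory.Limits AlgebraicGeometry Opposite
attribute [local instance] HasDerivedCategory.standard

namespace Groth.Agent.Fixpt.H901.ModPullCoh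

open Groth.Agent.Etcore
open Groth.Agent.Fixpt.H901.PullId Groth.Agent.Fixpt.H901.ModPull

variable {Λ : Type (u + 1)} [CommRing Λ] {W X Y Z T : Scheme.{u}}

lemma homEquiv_pcomp {f : X ⟶ Y} {g : Y ⟶ Z} {k : X ⟶ Z} (w : f ≫ g = k) {F : EtModW.Mod Λ Z}
    {G : EtModW.Mod Λ X} (c : (EtModW.pull Λ k).obj F ⟶ G) :
    (FixPt.pullPushAdj g).homEquiv _ _ ((FixPt.pullPushAdj f).homEquiv _ _
      ((pcomp Λ w).hom.app F ≫ c)) =
      (FixPt.pullPushAdj k).homEquiv _ _ c ≫ (pushC Λ w).inv.app G := by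
  have h1 : (FixPt.pullPushAdj k).homEquiv _ _ c ≫ (pushC Λ w).inv.app G =
      ((FixPt.pullPushAdj k).unit.app F ≫ (pushC Λ w).inv.app ((EtModW.pull Λ k).obj F)) ≫
        (EtModW.push Λ g).map ((EtModW.push Λ f).map c) := by
    rw [Adjunction.homEquiv_unit, Category.assoc, Category.assoc]
    congr 1
    exact (pushC Λ w).inv.naturality c
  rw [h1, pcomp_hom_unit, Adjunction.homEquiv_unit, Adjunction.homEquiv_unit, Functor.map_comp,
    Functor.map_comp, Functor.map_comp, Functor.map_comp]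
  simp only [Category.assoc]

lemma gsec_pushC {f : X ⟶ Y} {g : Y ⟶ Z} {k : X ⟶ Z} (w : f ≫ g = k) (G : EtModW.Mod Λ X) :
    (FixPt.gsec Λ Z).map ((pushC Λ w).inv.app G) ≫
      (FixPt.pushGsecIso g).hom.app ((EtModW.push Λ f).obj G) ≫ (FixPt.pushGsecIso f).hom.app G =
      (FixPt.pushGsecIso k).hom.app G := by
  have h0 : (FixPt.pushGsecIso g).hom.app ((EtModW.push Λ f).obj G) ≫
      (FixPt.pushGsecIso f).hom.app G =
      (FixPt.gsec Λ Z).map ((pushC Λ w).hom.app G) ≫ (FixPt.pushGsecIso k).hom.app G := by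
    have h1 : (FixPt.gsec Λ Z).map ((pushC Λ w).hom.app G) =
        G.obj.map (cIso w (EtCoh.top Z)).hom.op := pushC_hom_app_app w G (EtCoh.top Z)
    have h2 : (FixPt.pushGsecIso (Λ := Λ) k).hom.app G = G.obj.map (EtCore.bcTopIso k).inv.op := rfl
    have h3 : (FixPt.pushGsecIso (Λ := Λ) f).hom.app G = G.obj.map (EtCore.bcTopIso f).inv.op := rfl
    have h4 : (FixPt.pushGsecIso (Λ := Λ) g).hom.app ((EtModW.push Λ f).obj G) =
        G.obj.map ((EtCoh.bc f).map (EtCore.bcTopIso g).inv).op := rfl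
    rw [h1, h2, h3, h4]
    refine (G.obj.map_comp _ _).symm.trans (Eq.trans ?_ (G.obj.map_comp _ _))
    congr 1
    rw [← op_comp, ← op_comp]
    congr 1
    have ht : IsTerminal ((EtCoh.bc f).obj ((EtCoh.bc g).obj (EtCoh.top Z))) :=
      IsTerminal.isTerminalObj (EtCoh.bc f) _ (EtCore.bcTopIsTerminal g)
    exact ht.hom_ext _ _
  rw [h0]
  refine ((FixPt.gsec Λ Z).map_comp_assoc _ _ _).symm.trans ?_
  rw [Iso.inv_hom_id_app]
  exact (congrArg (fun z => z ≫ (FixPt.pushGsecIso k).hom.app G) ((FixPt.gsec Λ Z).map_id _)).trans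
    (Category.id_comp _)

/-- The transpose `V ⟶ Γ(X, G)` of a map `f^* V_Y ⟶ G`. -/
noncomputable def tr (f : X ⟶ Y) {V : ModuleCat.{u + 1} Λ} {G : EtModW.Mod Λ X}
    (φ : (EtModW.pull Λ f).obj ((constantSheaf Y.smallEtaleTopology (ModuleCat.{u + 1} Λ)).obj V) ⟶ G) :
    V ⟶ (FixPt.gsec Λ X).obj G :=
  (FixPt.constAdj Λ Y).homEquiv _ _ ((FixPt.pullPushAdj f).homEquiv _ _ φ) ≫
    (FixPt.pushGsecIso f).hom.app G

lemma tr_pullConstIso (f : X ⟶ Y) (V : ModuleCat.{u + 1} Λ) :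
    tr f ((FixPt.pullConstIso f).hom.app V) = (FixPt.constAdj Λ X).unit.app V := by
  have h := Adjunction.homEquiv_leftAdjointUniq_hom_app
    (((FixPt.constAdj Λ Y).comp (FixPt.pullPushAdj f)).ofNatIsoRight (FixPt.pushGsecIso f))
    (FixPt.constAdj Λ X) V
  rw [Adjunction.homEquiv_ofNatIsoRight_apply, Adjunction.comp_homEquiv] at h
  exact h

lemma homEquiv_const_comp {V : ModuleCat.{u + 1} Λ} {G G' : EtModW.Mod Λ Y}
    (a : (constantSheaf Y.smallEtaleTopology (ModuleCat.{u + 1} Λ)).obj V ⟶ G) (b : G ⟶ G') :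
    (FixPt.constAdj Λ Y).homEquiv _ _ (a ≫ b) =
      (FixPt.constAdj Λ Y).homEquiv _ _ a ≫ (FixPt.gsec Λ Y).map b :=
  Adjunction.homEquiv_naturality_right _ _ _

/-- The transpose of a map `f^* g^* V_Z ⟶ G`. -/
noncomputable def tr₂ (f : X ⟶ Y) (g : Y ⟶ Z) {V : ModuleCat.{u + 1} Λ} {G : EtModW.Mod Λ X}
    (φ : (EtModW.pull Λ f).obj ((EtModW.pull Λ g).obj
      ((constantSheaf Z.smallEtaleTopology (ModuleCat.{u + 1} Λ)).obj V)) ⟶ G) :
    V ⟶ (FixPt.gsec Λ X).obj G :=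
  tr g ((FixPt.pullPushAdj f).homEquiv _ _ φ) ≫ (FixPt.pushGsecIso f).hom.app G

lemma tr₂_injective (f : X ⟶ Y) (g : Y ⟶ Z) {V : ModuleCat.{u + 1} Λ} {G : EtModW.Mod Λ X}
    {φ ψ : (EtModW.pull Λ f).obj ((EtModW.pull Λ g).obj
      ((constantSheaf Z.smallEtaleTopology (ModuleCat.{u + 1} Λ)).obj V)) ⟶ G}
    (h : tr₂ f g φ = tr₂ f g ψ) : φ = ψ := by
  apply ((FixPt.pullPushAdj f).homEquiv _ _).injective
  apply ((FixPt.pullPushAdj g).homEquiv _ _).injective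
  apply ((FixPt.constAdj Λ Z).homEquiv _ _).injective
  unfold tr₂ tr at h
  rwa [cancel_mono, cancel_mono] at h

lemma tr₂_comp (f : X ⟶ Y) (g : Y ⟶ Z) {V : ModuleCat.{u + 1} Λ} {G : EtModW.Mod Λ X}
    {Q : EtModW.Mod Λ Y}
    (a : (EtModW.pull Λ g).obj ((constantSheaf Z.smallEtaleTopology (ModuleCat.{u + 1} Λ)).obj V) ⟶ Q)
    (b : (EtModW.pull Λ f).obj Q ⟶ G) :
    tr₂ f g ((EtModW.pull Λ f).map a ≫ b) =
      tr g a ≫ (FixPt.gsec Λ Y).map ((FixPt.pullPushAdj f).homEquiv _ _ b) ≫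
        (FixPt.pushGsecIso f).hom.app G := by
  unfold tr₂ tr
  have h1 : (FixPt.pullPushAdj f).homEquiv _ _ ((EtModW.pull Λ f).map a ≫ b) =
      a ≫ (FixPt.pullPushAdj f).homEquiv _ _ b := Adjunction.homEquiv_naturality_left _ _ _
  have h2 : (FixPt.pullPushAdj g).homEquiv _ _ (a ≫ (FixPt.pullPushAdj f).homEquiv _ _ b) =
      (FixPt.pullPushAdj g).homEquiv _ _ a ≫ (EtModW.push Λ g).map
        ((FixPt.pullPushAdj f).homEquiv _ _ b) := Adjunction.homEquiv_naturality_right _ _ _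
  rw [h1, h2, homEquiv_const_comp]
  simp only [Category.assoc]
  have h3 : (FixPt.gsec Λ Z).map ((EtModW.push Λ g).map ((FixPt.pullPushAdj f).homEquiv _ _ b)) ≫
      (FixPt.pushGsecIso g).hom.app ((EtModW.push Λ f).obj G) =
      (FixPt.pushGsecIso g).hom.app Q ≫ (FixPt.gsec Λ Y).map ((FixPt.pullPushAdj f).homEquiv _ _ b) :=
    (FixPt.pushGsecIso (Λ := Λ) g).hom.naturality ((FixPt.pullPushAdj f).homEquiv _ _ b)
  rw [reassoc_of% h3]

lemma tr₂_pcomp {f : X ⟶ Y} {g : Y ⟶ Z} {k : X ⟶ Z} (w : f ≫ g = k) {V : ModuleCat.{u + 1} Λ}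
    {G : EtModW.Mod Λ X}
    (c : (EtModW.pull Λ k).obj ((constantSheaf Z.smallEtaleTopology (ModuleCat.{u + 1} Λ)).obj V) ⟶ G) :
    tr₂ f g ((pcomp Λ w).hom.app _ ≫ c) = tr k c := by
  unfold tr₂ tr
  have h1 := homEquiv_pcomp w c
  refine (congrArg (fun z => ((FixPt.constAdj Λ Z).homEquiv _ _ z ≫
    (FixPt.pushGsecIso g).hom.app ((EtModW.push Λ f).obj G)) ≫ (FixPt.pushGsecIso f).hom.app G)
      h1).trans ?_
  rw [homEquiv_const_comp, Category.assoc, Category.assoc]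
  congr 1
  exact gsec_pushC w G

lemma pcomp_const {f : X ⟶ Y} {g : Y ⟶ Z} {k : X ⟶ Z} (w : f ≫ g = k) (V : ModuleCat.{u + 1} Λ) :
    (EtModW.pull Λ f).map ((FixPt.pullConstIso g).hom.app V) ≫ (FixPt.pullConstIso f).hom.app V =
      (pcomp Λ w).hom.app _ ≫ (FixPt.pullConstIso k).hom.app V := by
  apply tr₂_injective f g
  refine Eq.trans ?_ (tr₂_pcomp w _).symm
  refine (tr₂_comp f g _ _).trans ?_
  rw [tr_pullConstIso, tr_pullConstIso]
  refine Eq.trans ?_ (tr_pullConstIso f V)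
  unfold tr
  rw [Adjunction.homEquiv_unit (FixPt.constAdj Λ Y)]
  exact (Category.assoc _ _ _).symm

lemma pcomp_unit {f : X ⟶ Y} {g : Y ⟶ Z} {k : X ⟶ Z} (w : f ≫ g = k) :
    (EtModW.pull Λ f).map (FixPt.pullUnit (Λ := Λ) g).hom ≫ (FixPt.pullUnit f).hom =
      (pcomp Λ w).hom.app (FixPt.unit Λ Z) ≫ (FixPt.pullUnit k).hom :=
  pcomp_const w (ModuleCat.of Λ Λ)

end Groth.Agent.Fixpt.H901.ModPullCoh
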